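import Cfsg.Agent.H805.TF.Model

/-!
# S5262: `StSyl` and `StGrp` (helper805)
-/

set_option autoImplicit false

namespace Cfsg.Agent.H805.TF

open Cfsg.Agent.Octagon.Pkg Cfsg.Agent.H745.TF Cfsg.Lie
open Cfsg.Agent.SplitTwo Cfsg.Agent.SplitTwo.ZS Cfsg.Agent.TitsThree.RankTwoZ Cfsg.Agent.KFacts.TwF4
open Cfsg.Agent.KFacts.TwF4.Arc Cfsg.Agent.ChevalleyStructure.TwF4.TwistedFix

universe u v w

/-! ### the model exists for every `σ` -/

theorem charP_of {K : Type u} [Field K] {σ : K →+* K} {m : ℕ} (hK : HypK σ m) : CharP K 2 :=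
  CharTwo.of_one_ne_zero_of_two_eq_zero one_ne_zero hK.two

theorem rln_of {K : Type u} [Field K] {σ : K →+* K} {m : ℕ} (hK : HypK σ m) : Rln σ (2 ^ m) := by
  haveI := hK.fin
  haveI : Fintype K := Fintype.ofFinite K
  have h1 : Fintype.card K = 2 ^ (2 * m + 1) := by rw [← Nat.card_eq_fintype_card, hK.card]
  obtain ⟨φ, hφ⟩ := exists_rln h1
  have : φ = σ := by
    ext x
    rw [hφ.phi, hK.sig, ← pow_mul, pow_succ]
  rwa [this] at hφ

theorem hypK_of {K : Type u} [Field K] [Fintype K] {m : ℕ} (h1 : Fintype.card K = 2 ^ (2 * m + 1)) {σ : K →+* K}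
    (hσ : Rln σ (2 ^ m)) : HypK σ m := by
  haveI := Cfsg.Agent.ChevalleyStructure.TwF4.Twisted.charP_two h1
  refine ⟨inferInstance, by rw [Nat.card_eq_fintype_card, h1], ?_, ?_, ?_⟩
  · intro x
    rw [hσ.phi, ← pow_mul, pow_succ]
  · intro x
    rw [hσ.phi x, map_pow, hσ.phi_pow]
  · exact CharTwo.two_eq_zero

theorem stSyl : Cfsg.Agent.H745.TF.StSyl.{u} := by
  intro K _ _ m hK P
  haveI := Cfsg.Agent.ChevalleyStructure.TwF4.Twisted.charP_two hK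
  haveI : Fact (Nat.Prime 2) := ⟨Nat.prime_two⟩
  obtain ⟨σ, hσ⟩ := exists_rln hK
  have hH := hypK_of hK hσ
  refine ⟨σ, hH, ?_⟩
  let S := Cfsg.Agent.KFacts.TwF4.Inst.full hK hσ
  let T := modelTF S
  haveI : Finite ↥(twistedF4 K (2 ^ m)) := inferInstance
  have hcard : Nat.card ↥(J S.XZ 1 8) = (2 ^ (2 * m + 1)) ^ 12 := card_U' T hH
  -- the index is odd
  have hord := S1068.result (K := K) (m := m) hK
  have hJ : Nat.card ↥(J S.XZ 1 8) = 2 ^ (Nat.card ↥(twistedF4 K (2 ^ m))).factorization 2 := by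
    rw [hcard, ← pow_mul]
    congr 1
    have h2 : Nat.card ↥(twistedF4 K (2 ^ m)) = 2 ^ (12 * (2 * m + 1)) * ((2 ^ (2 * m + 1) - 1) *
        ((2 ^ (2 * m + 1)) ^ 3 + 1) * ((2 ^ (2 * m + 1)) ^ 4 - 1) * ((2 ^ (2 * m + 1)) ^ 6 + 1)) := by
      rw [hord, mul_comm 12 (2 * m + 1), pow_mul]
      ring
    rw [h2]
    have h3 : 2 ^ (2 * m + 1) % 2 = 0 := by rw [pow_succ]; omega
    have h4 : 0 < 2 ^ (2 * m + 1) := by positivity
    have hk : ∀ k, 1 ≤ k → (2 ^ (2 * m + 1)) ^ k % 2 = 0 ∧ 0 < (2 ^ (2 * m + 1)) ^ k := by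
      intro k hk
      refine ⟨?_, by positivity⟩
      have h5 : 2 ∣ (2 ^ (2 * m + 1)) ^ k := dvd_pow (dvd_pow_self 2 (by omega)) (by omega)
      omega
    have h3' := hk 3 (by norm_num)
    have h4' := hk 4 (by norm_num)
    have h6' := hk 6 (by norm_num)
    have hnd : ¬ 2 ∣ ((2 ^ (2 * m + 1) - 1) * ((2 ^ (2 * m + 1)) ^ 3 + 1) *
        ((2 ^ (2 * m + 1)) ^ 4 - 1) * ((2 ^ (2 * m + 1)) ^ 6 + 1)) := by
      rw [Nat.Prime.dvd_mul Nat.prime_two, Nat.Prime.dvd_mul Nat.prime_two, Nat.Prime.dvd_mul Nat.prime_two]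
      rintro (((h | h) | h) | h) <;> omega
    rw [Nat.factorization_mul (by positivity) (fun h => hnd (by rw [h]; exact dvd_zero 2)), Finsupp.add_apply,
      Nat.factorization_eq_zero_of_not_dvd hnd, add_zero, Nat.Prime.factorization_pow Nat.prime_two,
      Finsupp.single_eq_same]
    ring
  let P0 : Sylow 2 ↥(twistedF4 K (2 ^ m)) := Sylow.ofCard (J S.XZ 1 8) hJ
  exact ⟨mapTF T (P0.equiv P)⟩

/-! ### restriction of a conjugation -/

theorem exists_restr {U : Type v} {G : Type w} [Group U] [Group G] (f : U →* G) (hf : Function.Injective f)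
    (Q : Subgroup U) (n : G) (hn : n * n = 1) (h : Q ≤ (Q.map f).comap ((MulAut.conj n).toMonoidHom.comp f)) :
    ∃ γ : MulAut Q, ∀ e : Q, f ((γ e : Q) : U) = n * f e * n⁻¹ := by
  have h1 : ∀ e : Q, ∃ y : Q, f (y : U) = n * f e * n⁻¹ := by
    intro e
    obtain ⟨y, hy, hy'⟩ := h e.2
    exact ⟨⟨y, hy⟩, hy'⟩
  choose g hg using h1
  have hinj : ∀ a b : Q, f (a : U) = f (b : U) → a = b := fun a b h => Subtype.ext (hf h)
  have hinv : ∀ e : Q, g (g e) = e := by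
    intro e
    apply hinj
    rw [hg, hg]
    calc n * (n * f e * n⁻¹) * n⁻¹ = (n * n) * f e * (n * n)⁻¹ := by group
      _ = f e := by rw [hn]; group
  have hmul : ∀ a b : Q, g (a * b) = g a * g b := by
    intro a b
    apply hinj
    rw [hg, Subgroup.coe_mul, Subgroup.coe_mul, map_mul, map_mul, hg, hg]
    group
  exact ⟨{ toFun := g, invFun := g, left_inv := hinv, right_inv := hinv, map_mul' := hmul }, hg⟩

section weyl

variable {K : Type u} [Field K] {σ : K →+* K} {U : Type v} [Group U] (T : TF σ U)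

/-- the embedding of `U` into the model -/
theorem exists_emb {m : ℕ} (hK : HypK σ m) : ∃ (G : Type u) (_ : Group G) (S : Full σ G) (f : U →* G),
    Function.Injective f ∧ (∀ t, f (T.x1 t) = S.o 0 t) ∧ (∀ p u, f (T.x2 p u) = S.e 1 p u) ∧
      (∀ t, f (T.x3 t) = S.o 1 t) ∧ (∀ p u, f (T.x4 p u) = S.e 2 p u) ∧ (∀ t, f (T.x5 t) = S.o 2 t) ∧
      (∀ p u, f (T.x6 p u) = S.e 3 p u) ∧ (∀ t, f (T.x7 t) = S.o 3 t) ∧ (∀ p u, f (T.x8 p u) = S.e 4 p u) := by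
  haveI := hK.fin
  haveI : Fintype K := Fintype.ofFinite K
  haveI := charP_of hK
  have h1 : Fintype.card K = 2 ^ (2 * m + 1) := by rw [← Nat.card_eq_fintype_card, hK.card]
  let S := Cfsg.Agent.KFacts.TwF4.Inst.full h1 (rln_of hK)
  obtain ⟨e, a1, a2, a3, a4, a5, a6, a7, a8⟩ := stIso hK T (modelTF S)
  refine ⟨_, inferInstance, S, (J S.XZ 1 8).subtype.comp e.toMonoidHom, ?_, ?_, ?_, ?_, ?_, ?_, ?_, ?_, ?_⟩
  · exact Subtype.val_injective.comp e.injective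
  · intro t; exact congrArg Subtype.val (a1 t)
  · intro p u; exact congrArg Subtype.val (a2 p u)
  · intro t; exact congrArg Subtype.val (a3 t)
  · intro p u; exact congrArg Subtype.val (a4 p u)
  · intro t; exact congrArg Subtype.val (a5 t)
  · intro p u; exact congrArg Subtype.val (a6 p u)
  · intro t; exact congrArg Subtype.val (a7 t)
  · intro p u; exact congrArg Subtype.val (a8 p u)

/-! membership of the root elements -/

theorem x1_QA (t : K) : T.x1 t ∈ T.QA := by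
  have h : T.X1 ≤ T.QA := by
    unfold TF.QA
    exact le_trans (le_trans (le_trans (le_trans (le_trans le_sup_left le_sup_left) le_sup_left) le_sup_left)
      le_sup_left) le_sup_left
  exact h (Subgroup.subset_closure ⟨t, rfl⟩)

theorem x2_QA (p u : K) : T.x2 p u ∈ T.QA := by
  have h : T.X2 ≤ T.QA := by
    unfold TF.QA
    exact le_trans (le_trans (le_trans (le_trans (le_trans le_sup_right le_sup_left) le_sup_left) le_sup_left)
      le_sup_left) le_sup_left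
  exact h (Subgroup.subset_closure ⟨p, u, rfl⟩)

theorem x3_QA (t : K) : T.x3 t ∈ T.QA := by
  have h : T.X3 ≤ T.QA := by
    unfold TF.QA
    exact le_trans (le_trans (le_trans (le_trans le_sup_right le_sup_left) le_sup_left) le_sup_left) le_sup_left
  exact h (Subgroup.subset_closure ⟨t, rfl⟩)

theorem x4_QA (p u : K) : T.x4 p u ∈ T.QA := by
  have h : T.X4 ≤ T.QA := by
    unfold TF.QA
    exact le_trans (le_trans (le_trans le_sup_right le_sup_left) le_sup_left) le_sup_left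
  exact h (Subgroup.subset_closure ⟨p, u, rfl⟩)

theorem x5_QA (t : K) : T.x5 t ∈ T.QA := by
  have h : T.X5 ≤ T.QA := by
    unfold TF.QA
    exact le_trans (le_trans le_sup_right le_sup_left) le_sup_left
  exact h (Subgroup.subset_closure ⟨t, rfl⟩)

theorem x6_QA (p u : K) : T.x6 p u ∈ T.QA := by
  have h : T.X6 ≤ T.QA := by
    unfold TF.QA
    exact le_trans le_sup_right le_sup_left
  exact h (Subgroup.subset_closure ⟨p, u, rfl⟩)

theorem x7_QA (t : K) : T.x7 t ∈ T.QA := by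
  have h : T.X7 ≤ T.QA := by
    unfold TF.QA
    exact le_sup_right
  exact h (Subgroup.subset_closure ⟨t, rfl⟩)

theorem x2_QB (p u : K) : T.x2 p u ∈ T.QB := by
  have h : T.X2 ≤ T.QB := by
    unfold TF.QB
    exact le_trans (le_trans (le_trans (le_trans (le_trans le_sup_left le_sup_left) le_sup_left) le_sup_left)
      le_sup_left) le_sup_left
  exact h (Subgroup.subset_closure ⟨p, u, rfl⟩)

theorem x3_QB (t : K) : T.x3 t ∈ T.QB := by
  have h : T.X3 ≤ T.QB := by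
    unfold TF.QB
    exact le_trans (le_trans (le_trans (le_trans (le_trans le_sup_right le_sup_left) le_sup_left) le_sup_left)
      le_sup_left) le_sup_left
  exact h (Subgroup.subset_closure ⟨t, rfl⟩)

theorem x4_QB (p u : K) : T.x4 p u ∈ T.QB := by
  have h : T.X4 ≤ T.QB := by
    unfold TF.QB
    exact le_trans (le_trans (le_trans (le_trans le_sup_right le_sup_left) le_sup_left) le_sup_left) le_sup_left
  exact h (Subgroup.subset_closure ⟨p, u, rfl⟩)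

theorem x5_QB (t : K) : T.x5 t ∈ T.QB := by
  have h : T.X5 ≤ T.QB := by
    unfold TF.QB
    exact le_trans (le_trans (le_trans le_sup_right le_sup_left) le_sup_left) le_sup_left
  exact h (Subgroup.subset_closure ⟨t, rfl⟩)

theorem x6_QB (p u : K) : T.x6 p u ∈ T.QB := by
  have h : T.X6 ≤ T.QB := by
    unfold TF.QB
    exact le_trans (le_trans le_sup_right le_sup_left) le_sup_left
  exact h (Subgroup.subset_closure ⟨p, u, rfl⟩)

theorem x7_QB (t : K) : T.x7 t ∈ T.QB := by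
  have h : T.X7 ≤ T.QB := by
    unfold TF.QB
    exact le_trans le_sup_right le_sup_left
  exact h (Subgroup.subset_closure ⟨t, rfl⟩)

theorem x8_QB (p u : K) : T.x8 p u ∈ T.QB := by
  have h : T.X8 ≤ T.QB := by
    unfold TF.QB
    exact le_sup_right
  exact h (Subgroup.subset_closure ⟨p, u, rfl⟩)

/-- a subgroup which contains the root elements contains `QA` -/
theorem QA_le {H : Subgroup U} (h1 : ∀ t, T.x1 t ∈ H) (h2 : ∀ p u, T.x2 p u ∈ H) (h3 : ∀ t, T.x3 t ∈ H)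
    (h4 : ∀ p u, T.x4 p u ∈ H) (h5 : ∀ t, T.x5 t ∈ H) (h6 : ∀ p u, T.x6 p u ∈ H) (h7 : ∀ t, T.x7 t ∈ H) :
    T.QA ≤ H := by
  unfold TF.QA
  refine sup_le (sup_le (sup_le (sup_le (sup_le (sup_le ?_ ?_) ?_) ?_) ?_) ?_) ?_ <;> refine (Subgroup.closure_le _).2 ?_
  · rintro _ ⟨t, rfl⟩; exact h1 t
  · rintro _ ⟨p, u, rfl⟩; exact h2 p u
  · rintro _ ⟨t, rfl⟩; exact h3 t
  · rintro _ ⟨p, u, rfl⟩; exact h4 p u
  · rintro _ ⟨t, rfl⟩; exact h5 t
  · rintro _ ⟨p, u, rfl⟩; exact h6 p u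
  · rintro _ ⟨t, rfl⟩; exact h7 t

theorem QB_le {H : Subgroup U} (h2 : ∀ p u, T.x2 p u ∈ H) (h3 : ∀ t, T.x3 t ∈ H) (h4 : ∀ p u, T.x4 p u ∈ H)
    (h5 : ∀ t, T.x5 t ∈ H) (h6 : ∀ p u, T.x6 p u ∈ H) (h7 : ∀ t, T.x7 t ∈ H) (h8 : ∀ p u, T.x8 p u ∈ H) :
    T.QB ≤ H := by
  unfold TF.QB
  refine sup_le (sup_le (sup_le (sup_le (sup_le (sup_le ?_ ?_) ?_) ?_) ?_) ?_) ?_ <;> refine (Subgroup.closure_le _).2 ?_
  · rintro _ ⟨p, u, rfl⟩; exact h2 p u
  · rintro _ ⟨t, rfl⟩; exact h3 t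
  · rintro _ ⟨p, u, rfl⟩; exact h4 p u
  · rintro _ ⟨t, rfl⟩; exact h5 t
  · rintro _ ⟨p, u, rfl⟩; exact h6 p u
  · rintro _ ⟨t, rfl⟩; exact h7 t
  · rintro _ ⟨p, u, rfl⟩; exact h8 p u

theorem exists_wa {m : ℕ} (hK : HypK σ m) : ∃ γ, T.IsWa γ := by
  obtain ⟨G, _, S, f, hf, a1, a2, a3, a4, a5, a6, a7, a8⟩ := exists_emb T hK
  have w1 : ∀ t, S.n2 * S.o 0 t * S.n2⁻¹ = S.o 3 t := fun t => S.n2_o 0 t
  have w3 : ∀ t, S.n2 * S.o 1 t * S.n2⁻¹ = S.o 2 t := fun t => S.n2_o 1 t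
  have w5 : ∀ t, S.n2 * S.o 2 t * S.n2⁻¹ = S.o 1 t := fun t => S.n2_o 2 t
  have w7 : ∀ t, S.n2 * S.o 3 t * S.n2⁻¹ = S.o 0 t := fun t => S.n2_o 3 t
  have w2 : ∀ p u, S.n2 * S.e 1 p u * S.n2⁻¹ = S.e 3 p u := fun p u => S.n2_e 1 p u
  have w4 : ∀ p u, S.n2 * S.e 2 p u * S.n2⁻¹ = S.e 2 p u := fun p u => S.n2_e 2 p u
  have w6 : ∀ p u, S.n2 * S.e 3 p u * S.n2⁻¹ = S.e 1 p u := fun p u => S.n2_e 3 p u
  obtain ⟨γ, hγ⟩ := exists_restr f hf T.QA S.n2 S.n2_sq (by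
    apply QA_le T
    · intro t; exact ⟨_, x7_QA T t, by show f _ = S.n2 * f _ * S.n2⁻¹; rw [a7, a1, w1]⟩
    · intro p u; exact ⟨_, x6_QA T p u, by show f _ = S.n2 * f _ * S.n2⁻¹; rw [a6, a2, w2]⟩
    · intro t; exact ⟨_, x5_QA T t, by show f _ = S.n2 * f _ * S.n2⁻¹; rw [a5, a3, w3]⟩
    · intro p u; exact ⟨_, x4_QA T p u, by show f _ = S.n2 * f _ * S.n2⁻¹; rw [a4, w4]⟩
    · intro t; exact ⟨_, x3_QA T t, by show f _ = S.n2 * f _ * S.n2⁻¹; rw [a5, a3, w5]⟩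
    · intro p u; exact ⟨_, x2_QA T p u, by show f _ = S.n2 * f _ * S.n2⁻¹; rw [a6, a2, w6]⟩
    · intro t; exact ⟨_, x1_QA T t, by show f _ = S.n2 * f _ * S.n2⁻¹; rw [a7, a1, w7]⟩)
  refine ⟨γ, ?_, ?_, ?_, ?_, ?_, ?_, ?_⟩
  · intro e t he; apply hf; rw [hγ, he, a1, a7, w1]
  · intro e p u he; apply hf; rw [hγ, he, a2, a6, w2]
  · intro e t he; apply hf; rw [hγ, he, a3, a5, w3]
  · intro e p u he; apply hf; rw [hγ, he, a4, w4]
  · intro e t he; apply hf; rw [hγ, he, a3, a5, w5]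
  · intro e p u he; apply hf; rw [hγ, he, a2, a6, w6]
  · intro e t he; apply hf; rw [hγ, he, a1, a7, w7]

theorem exists_wb {m : ℕ} (hK : HypK σ m) : ∃ γ, T.IsWb γ := by
  obtain ⟨G, _, S, f, hf, a1, a2, a3, a4, a5, a6, a7, a8⟩ := exists_emb T hK
  have w3 : ∀ t, S.n1 * S.o 1 t * S.n1⁻¹ = S.o 3 t := fun t => S.n1_o 1 t
  have w5 : ∀ t, S.n1 * S.o 2 t * S.n1⁻¹ = S.o 2 t := fun t => S.n1_o 2 t
  have w7 : ∀ t, S.n1 * S.o 3 t * S.n1⁻¹ = S.o 1 t := fun t => S.n1_o 3 t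
  have w2 : ∀ p u, S.n1 * S.e 1 p u * S.n1⁻¹ = S.e 4 p u := fun p u => S.n1_e 1 p u
  have w4 : ∀ p u, S.n1 * S.e 2 p u * S.n1⁻¹ = S.e 3 p u := fun p u => S.n1_e 2 p u
  have w6 : ∀ p u, S.n1 * S.e 3 p u * S.n1⁻¹ = S.e 2 p u := fun p u => S.n1_e 3 p u
  have w8 : ∀ p u, S.n1 * S.e 4 p u * S.n1⁻¹ = S.e 1 p u := fun p u => S.n1_e 4 p u
  obtain ⟨γ, hγ⟩ := exists_restr f hf T.QB S.n1 S.n1_sq (by
    apply QB_le T
    · intro p u; exact ⟨_, x8_QB T p u, by show f _ = S.n1 * f _ * S.n1⁻¹; rw [a8, a2, w2]⟩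
    · intro t; exact ⟨_, x7_QB T t, by show f _ = S.n1 * f _ * S.n1⁻¹; rw [a7, a3, w3]⟩
    · intro p u; exact ⟨_, x6_QB T p u, by show f _ = S.n1 * f _ * S.n1⁻¹; rw [a6, a4, w4]⟩
    · intro t; exact ⟨_, x5_QB T t, by show f _ = S.n1 * f _ * S.n1⁻¹; rw [a5, w5]⟩
    · intro p u; exact ⟨_, x4_QB T p u, by show f _ = S.n1 * f _ * S.n1⁻¹; rw [a6, a4, w6]⟩
    · intro t; exact ⟨_, x3_QB T t, by show f _ = S.n1 * f _ * S.n1⁻¹; rw [a7, a3, w7]⟩
    · intro p u; exact ⟨_, x2_QB T p u, by show f _ = S.n1 * f _ * S.n1⁻¹; rw [a8, a2, w8]⟩)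
  refine ⟨γ, ?_, ?_, ?_, ?_, ?_, ?_, ?_⟩
  · intro e p u he; apply hf; rw [hγ, he, a2, a8, w2]
  · intro e t he; apply hf; rw [hγ, he, a3, a7, w3]
  · intro e p u he; apply hf; rw [hγ, he, a4, a6, w4]
  · intro e t he; apply hf; rw [hγ, he, a5, w5]
  · intro e p u he; apply hf; rw [hγ, he, a4, a6, w6]
  · intro e t he; apply hf; rw [hγ, he, a3, a7, w7]
  · intro e p u he; apply hf; rw [hγ, he, a2, a8, w8]

end weyl

theorem stGrp : Cfsg.Agent.H745.TF.StGrp.{u, v} := by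
  intro K _ σ m hK U _ T
  exact ⟨card_U' T hK, isPGroup_U T hK, fun f g τ hf hg => exists_tor T hK f g τ hf hg, fun α h => (mem_TT hK).1 h,
    exists_wa T hK, exists_wb T hK⟩

end Cfsg.Agent.H805.TF
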