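import Cfsg.Agent.H745.TF.Stmts
import Cfsg.Agent.H659.TF.Ump

/-!
# S5262: StIso, and automorphisms from twisted families (helper805)
-/

set_option autoImplicit false

namespace Cfsg.Agent.H805.TF

open Cfsg.Agent.Octagon.Pkg Cfsg.Agent.H745.TF

universe u v w

variable {K : Type u} [Field K] {σ : K →+* K} {U : Type v} [Group U] (T : TF σ U) {H : Type w} [Group H]

/-- two homomorphisms which agree on the root elements are equal -/
theorem hom_ext {φ ψ : U →* H} (h1 : ∀ t, φ (T.x1 t) = ψ (T.x1 t)) (h2 : ∀ p u, φ (T.x2 p u) = ψ (T.x2 p u))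
    (h3 : ∀ t, φ (T.x3 t) = ψ (T.x3 t)) (h4 : ∀ p u, φ (T.x4 p u) = ψ (T.x4 p u)) (h5 : ∀ t, φ (T.x5 t) = ψ (T.x5 t))
    (h6 : ∀ p u, φ (T.x6 p u) = ψ (T.x6 p u)) (h7 : ∀ t, φ (T.x7 t) = ψ (T.x7 t))
    (h8 : ∀ p u, φ (T.x8 p u) = ψ (T.x8 p u)) : φ = ψ := by
  ext g
  obtain ⟨c, rfl⟩ := T.bij.2 g
  simp only [map_mul, h1, h2, h3, h4, h5, h6, h7, h8]

theorem stIso : Cfsg.Agent.H745.TF.StIso.{u, v, w} := by
  intro K _ σ m hK U U' _ _ T T'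
  obtain ⟨φ, a1, a2, a3, a4, a5, a6, a7, a8⟩ := Cfsg.Agent.H659.TF.ump T T'.rel
  obtain ⟨ψ, b1, b2, b3, b4, b5, b6, b7, b8⟩ := Cfsg.Agent.H659.TF.ump T' T.rel
  have h1 : ψ.comp φ = MonoidHom.id U := hom_ext T (by simp [a1, b1]) (by simp [a2, b2]) (by simp [a3, b3])
    (by simp [a4, b4]) (by simp [a5, b5]) (by simp [a6, b6]) (by simp [a7, b7]) (by simp [a8, b8])
  have h2 : φ.comp ψ = MonoidHom.id U' := hom_ext T' (by simp [a1, b1]) (by simp [a2, b2]) (by simp [a3, b3])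
    (by simp [a4, b4]) (by simp [a5, b5]) (by simp [a6, b6]) (by simp [a7, b7]) (by simp [a8, b8])
  refine ⟨MonoidHom.toMulEquiv φ ψ h1 h2, ?_⟩
  exact ⟨a1, a2, a3, a4, a5, a6, a7, a8⟩

end Cfsg.Agent.H805.TF
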