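import Cfsg.Agent.H805.TF.Iso

/-!
# S5262: the order of `U`, the automorphisms `IsTor` (helper805)
-/

set_option autoImplicit false

namespace Cfsg.Agent.H805.TF

open Cfsg.Agent.Octagon.Pkg Cfsg.Agent.H745.TF

universe u v w

/-! ### the order -/

section card
variable (K : Type u)

/-- coordinates as a product -/
def cdEquiv : Cd K ≃ K × K × K × K × K × K × K × K × K × K × K × K where
  toFun c := (c.a1, c.a2, c.b2, c.a3, c.a4, c.b4, c.a5, c.a6, c.b6, c.a7, c.a8, c.b8)
  invFun x := ⟨x.1, x.2.1, x.2.2.1, x.2.2.2.1, x.2.2.2.2.1, x.2.2.2.2.2.1, x.2.2.2.2.2.2.1, x.2.2.2.2.2.2.2.1,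
    x.2.2.2.2.2.2.2.2.1, x.2.2.2.2.2.2.2.2.2.1, x.2.2.2.2.2.2.2.2.2.2.1, x.2.2.2.2.2.2.2.2.2.2.2⟩
  left_inv _ := rfl
  right_inv _ := rfl

theorem card_cd : Nat.card (Cd K) = Nat.card K ^ 12 := by
  rw [Nat.card_congr (cdEquiv K)]
  simp only [Nat.card_prod]
  ring

end card

section
variable {K : Type u} [Field K] {σ : K →+* K} {U : Type v} [Group U] (T : TF σ U)

/-- coordinates on the group -/
noncomputable def cdU : Cd K ≃ U := Equiv.ofBijective _ T.bij

include T in
theorem card_U : Nat.card U = Nat.card K ^ 12 := by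
  rw [← card_cd, Nat.card_congr (cdU T)]

include T in
theorem finite_U {m : ℕ} (hK : HypK σ m) : Finite U := by
  haveI := hK.fin
  haveI : Finite (Cd K) := Finite.of_equiv _ (cdEquiv K).symm
  exact Finite.of_equiv _ (cdU T)

include T in
theorem card_U' {m : ℕ} (hK : HypK σ m) : Nat.card U = (2 ^ (2 * m + 1)) ^ 12 := by
  rw [card_U T, hK.card]

include T in
theorem isPGroup_U {m : ℕ} (hK : HypK σ m) : IsPGroup 2 (⊤ : Subgroup U) := by
  haveI := finite_U T hK
  haveI : Fact (Nat.Prime 2) := ⟨Nat.prime_two⟩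
  have h : Nat.card (⊤ : Subgroup U) = 2 ^ ((2 * m + 1) * 12) := by
    rw [Subgroup.card_top, card_U' T hK, ← pow_mul]
  exact IsPGroup.of_card h

/-! ### field automorphisms commute with `σ` -/

theorem tau_sigma {m : ℕ} (hK : HypK σ m) (τ : K ≃+* K) (x : K) : σ (τ x) = τ (σ x) := by
  rw [hK.sig, hK.sig, map_pow]

theorem mulc {G : Type w} [Group G] {a b c d : G} (h1 : a = c) (h2 : b = d) : a * b = c * d := by rw [h1, h2]

theorem exists_tor {m : ℕ} (hK : HypK σ m) (f g : K) (τ : K ≃+* K) (hf : f ≠ 0) (hg : g ≠ 0) :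
    ∃ α : MulAut U, T.IsTor α f g τ := by
  have hs := tau_sigma hK τ
  have hq := hK.sq
  have R : OctRel σ (fun t => T.x1 (f * τ t)) (fun t => T.x3 (f * g * σ (f * g) * g * τ t))
      (fun t => T.x5 (f * σ f * g ^ 2 * σ g ^ 2 * τ t)) (fun t => T.x7 (f * g ^ 2 * σ g * τ t))
      (fun p u => T.x2 (f * g * τ p) (f * g * σ (f * g) * τ u))
      (fun p u => T.x4 (σ (f * g) * g * τ p) (σ (f * g) * g * σ (σ (f * g) * g) * τ u))
      (fun p u => T.x6 (f * g * σ g * τ p) (f * g * σ g * σ (f * g * σ g) * τ u))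
      (fun p u => T.x8 (g * τ p) (g * σ g * τ u)) := by
    constructor
    case m1 => intro t s; rw [T.rel.m1, map_add]; exact congrArg T.x1 (by ring)
    case m3 => intro t s; rw [T.rel.m3, map_add]; exact congrArg T.x3 (by ring)
    case m5 => intro t s; rw [T.rel.m5, map_add]; exact congrArg T.x5 (by ring)
    case m7 => intro t s; rw [T.rel.m7, map_add]; exact congrArg T.x7 (by ring)
    case m2 => 
      intro p u q v; rw [T.rel.m2]; simp only [map_mul, map_add, hs]
      exact congrArg₂ T.x2 (by ring) (by ring)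
    case m4 => 
      intro p u q v; rw [T.rel.m4]; simp only [map_mul, map_add, hs]
      exact congrArg₂ T.x4 (by ring) (by ring)
    case m6 => 
      intro p u q v; rw [T.rel.m6]; simp only [map_mul, map_add, hs]
      exact congrArg₂ T.x6 (by ring) (by ring)
    case m8 => 
      intro p u q v; rw [T.rel.m8]; simp only [map_mul, map_add, hs]
      exact congrArg₂ T.x8 (by ring) (by ring)
    case r12 => intro t q v; exact T.rel.r12 _ _ _
    case r13 => intro t s; exact T.rel.r13 _ _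
    case r15 => intro t s; exact T.rel.r15 _ _
    case r23 => intro p u s; exact T.rel.r23 _ _ _
    case r26 => intro p u q v; exact T.rel.r26 _ _ _ _
    case r34 => intro t q v; exact T.rel.r34 _ _ _
    case r35 => intro t s; exact T.rel.r35 _ _
    case r37 => intro t s; exact T.rel.r37 _ _
    case r45 => intro p u s; exact T.rel.r45 _ _ _
    case r48 => intro p u q v; exact T.rel.r48 _ _ _ _
    case r56 => intro t q v; exact T.rel.r56 _ _ _
    case r57 => intro t s; exact T.rel.r57 _ _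
    case r67 => intro p u s; exact T.rel.r67 _ _ _
    case r78 => intro t q v; exact T.rel.r78 _ _ _
    case r14 =>
      intro t q v; rw [T.rel.r14]; simp only [map_mul, map_add, map_zero, mul_zero, hs, hq, map_pow]
      refine mulc rfl (congrArg₂ T.x2 rfl (by ring))
    case r16 =>
      intro t q v; rw [T.rel.r16]; simp only [map_mul, map_add, map_zero, mul_zero, hs, hq, map_pow]
      refine mulc (mulc (mulc rfl (congrArg₂ T.x2 rfl (by ring))) (congrArg T.x3 (by ring))) (congrArg₂ T.x4 rfl (by ring))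
    case r17 =>
      intro t s; rw [T.rel.r17]; simp only [map_mul, map_add, map_zero, mul_zero, hs, hq, map_pow]
      refine mulc (mulc rfl (congrArg T.x3 (by ring))) (congrArg T.x5 (by ring))
    case r18 =>
      intro t q v; rw [T.rel.r18]; simp only [map_mul, map_add, map_zero, mul_zero, hs, hq, map_pow]
      refine mulc (mulc (mulc (mulc (mulc (mulc rfl ?_) ?_) ?_) ?_) ?_) ?_
      · exact congrArg₂ T.x2 (by ring) (by ring)
      · exact congrArg T.x3 (by ring)
      · exact congrArg₂ T.x4 (by ring) (by ring)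
      · exact congrArg T.x5 (by ring)
      · exact congrArg₂ T.x6 (by ring) (by ring)
      · exact congrArg T.x7 (by ring)
    case r24 =>
      intro p u q v; rw [T.rel.r24]; simp only [map_mul, map_add, map_zero, mul_zero, hs, hq, map_pow]
      refine mulc rfl (congrArg T.x3 (by ring))
    case r25 =>
      intro p u s; rw [T.rel.r25]; simp only [map_mul, map_add, map_zero, mul_zero, hs, hq, map_pow]
      refine mulc rfl (congrArg₂ T.x4 rfl (by ring))
    case r27 =>
      intro p u s; rw [T.rel.r27]; simp only [map_mul, map_add, map_zero, mul_zero, hs, hq, map_pow]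
      refine mulc (mulc (mulc rfl ?_) ?_) ?_
      · exact congrArg₂ T.x4 rfl (by ring)
      · exact congrArg T.x5 (by ring)
      · exact congrArg₂ T.x6 rfl (by ring)
    case r28 =>
      intro p u q v; rw [T.rel.r28]; simp only [map_mul, map_add, map_zero, mul_zero, hs, hq, map_pow]
      refine mulc (mulc (mulc (mulc (mulc rfl ?_) ?_) ?_) ?_) ?_
      · exact congrArg T.x3 (by ring)
      · exact congrArg₂ T.x4 (by ring) (by ring)
      · exact congrArg T.x5 (by ring)
      · exact congrArg₂ T.x6 (by ring) (by ring)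
      · exact congrArg T.x7 (by ring)
    case r36 =>
      intro t q v; rw [T.rel.r36]; simp only [map_mul, map_add, map_zero, mul_zero, hs, hq, map_pow]
      refine mulc rfl (congrArg₂ T.x4 rfl (by ring))
    case r38 =>
      intro t q v; rw [T.rel.r38]; simp only [map_mul, map_add, map_zero, mul_zero, hs, hq, map_pow]
      refine mulc (mulc (mulc rfl ?_) ?_) ?_
      · exact congrArg₂ T.x4 rfl (by ring)
      · exact congrArg T.x5 (by ring)
      · exact congrArg₂ T.x6 rfl (by ring)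
    case r46 =>
      intro p u q v; rw [T.rel.r46]; simp only [map_mul, map_add, map_zero, mul_zero, hs, hq, map_pow]
      refine mulc rfl (congrArg T.x5 (by ring))
    case r47 =>
      intro p u s; rw [T.rel.r47]; simp only [map_mul, map_add, map_zero, mul_zero, hs, hq, map_pow]
      refine mulc rfl (congrArg₂ T.x6 rfl (by ring))
    case r58 =>
      intro t q v; rw [T.rel.r58]; simp only [map_mul, map_add, map_zero, mul_zero, hs, hq, map_pow]
      refine mulc rfl (congrArg₂ T.x6 rfl (by ring))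
    case r68 =>
      intro p u q v; rw [T.rel.r68]; simp only [map_mul, map_add, map_zero, mul_zero, hs, hq, map_pow]
      refine mulc rfl (congrArg T.x7 (by ring))
  obtain ⟨φ, a1, a2, a3, a4, a5, a6, a7, a8⟩ := Cfsg.Agent.H659.TF.ump T R
  haveI := finite_U T hK
  have hsf : σ f ≠ 0 := (map_ne_zero σ).2 hf
  have hsg : σ g ≠ 0 := (map_ne_zero σ).2 hg
  -- surjective on root elements
  have key : ∀ k : K, k ≠ 0 → ∀ x : K, ∃ y, k * τ y = x := by
    intro k hk x
    obtain ⟨y, hy⟩ := τ.surjective (k⁻¹ * x)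
    exact ⟨y, by rw [hy, mul_inv_cancel_left₀ hk]⟩
  have hsurj : Function.Surjective φ := by
    rw [← MonoidHom.range_eq_top, eq_top_iff]
    rintro x -
    obtain ⟨c, rfl⟩ := T.bij.2 x
    have r1 : ∀ t, T.x1 t ∈ φ.range := by
      intro t
      obtain ⟨y, hy⟩ := key _ hf t
      exact ⟨T.x1 y, by rw [a1, hy]⟩
    have r3 : ∀ t, T.x3 t ∈ φ.range := by
      intro t
      obtain ⟨y, hy⟩ := key (f * g * σ (f * g) * g) (by simp [hf, hg, hsf, hsg]) t
      exact ⟨T.x3 y, by rw [a3, hy]⟩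
    have r5 : ∀ t, T.x5 t ∈ φ.range := by
      intro t
      obtain ⟨y, hy⟩ := key (f * σ f * g ^ 2 * σ g ^ 2) (by simp [hf, hg, hsf, hsg]) t
      exact ⟨T.x5 y, by rw [a5, hy]⟩
    have r7 : ∀ t, T.x7 t ∈ φ.range := by
      intro t
      obtain ⟨y, hy⟩ := key (f * g ^ 2 * σ g) (by simp [hf, hg, hsg]) t
      exact ⟨T.x7 y, by rw [a7, hy]⟩
    have r2 : ∀ p u, T.x2 p u ∈ φ.range := by
      intro p u
      obtain ⟨y, hy⟩ := key (f * g) (by simp [hf, hg]) p
      obtain ⟨z, hz⟩ := key (f * g * σ (f * g)) (by simp [hf, hg, hsf, hsg]) u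
      exact ⟨T.x2 y z, by rw [a2, hy, hz]⟩
    have r4 : ∀ p u, T.x4 p u ∈ φ.range := by
      intro p u
      obtain ⟨y, hy⟩ := key (σ (f * g) * g) (by simp [hf, hg, hsf, hsg]) p
      obtain ⟨z, hz⟩ := key (σ (f * g) * g * σ (σ (f * g) * g)) (by simp [hf, hg, hsf, hsg]) u
      exact ⟨T.x4 y z, by rw [a4, hy, hz]⟩
    have r6 : ∀ p u, T.x6 p u ∈ φ.range := by
      intro p u
      obtain ⟨y, hy⟩ := key (f * g * σ g) (by simp [hf, hg, hsg]) p
      obtain ⟨z, hz⟩ := key (f * g * σ g * σ (f * g * σ g)) (by simp [hf, hg, hsf, hsg]) u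
      exact ⟨T.x6 y z, by rw [a6, hy, hz]⟩
    have r8 : ∀ p u, T.x8 p u ∈ φ.range := by
      intro p u
      obtain ⟨y, hy⟩ := key g hg p
      obtain ⟨z, hz⟩ := key (g * σ g) (by simp [hg]) u
      exact ⟨T.x8 y z, by rw [a8, hy, hz]⟩
    exact mul_mem (mul_mem (mul_mem (mul_mem (mul_mem (mul_mem (mul_mem (r1 _) (r2 _ _)) (r3 _)) (r4 _ _)) (r5 _))
      (r6 _ _)) (r7 _)) (r8 _ _)
  refine ⟨MulEquiv.ofBijective φ (Finite.injective_iff_bijective.1 (Finite.injective_iff_surjective.2 hsurj)), ?_⟩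
  exact ⟨hf, hg, a1, a2, a3, a4, a5, a6, a7, a8⟩

/-! ### the automorphisms `IsTor` form a group -/

variable {T}

theorem tor_mul {m : ℕ} (hK : HypK σ m) {α β : MulAut U} {f g f' g' : K} {τ τ' : K ≃+* K} (ha : T.IsTor α f g τ)
    (hb : T.IsTor β f' g' τ') : T.IsTor (α * β) (f * τ f') (g * τ g') (τ'.trans τ) := by
  have hs := tau_sigma hK τ
  have hs' := tau_sigma hK τ'
  refine ⟨mul_ne_zero ha.nf ((map_ne_zero τ).2 hb.nf), mul_ne_zero ha.ng ((map_ne_zero τ).2 hb.ng), ?_, ?_, ?_, ?_,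
    ?_, ?_, ?_, ?_⟩
  · intro t
    rw [MulAut.mul_apply, hb.e1, ha.e1]
    refine congrArg T.x1 ?_
    simp only [map_mul, map_pow, hs, RingEquiv.coe_trans, Function.comp]
    ring
  · intro p u
    rw [MulAut.mul_apply, hb.e2, ha.e2]
    refine congrArg₂ T.x2 ?_ ?_ <;>
    · simp only [map_mul, map_pow, hs, RingEquiv.coe_trans, Function.comp]
      ring
  · intro t
    rw [MulAut.mul_apply, hb.e3, ha.e3]
    refine congrArg T.x3 ?_
    simp only [map_mul, map_pow, hs, RingEquiv.coe_trans, Function.comp]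
    ring
  · intro p u
    rw [MulAut.mul_apply, hb.e4, ha.e4]
    refine congrArg₂ T.x4 ?_ ?_ <;>
    · simp only [map_mul, map_pow, hs, RingEquiv.coe_trans, Function.comp]
      ring
  · intro t
    rw [MulAut.mul_apply, hb.e5, ha.e5]
    refine congrArg T.x5 ?_
    simp only [map_mul, map_pow, hs, RingEquiv.coe_trans, Function.comp]
    ring
  · intro p u
    rw [MulAut.mul_apply, hb.e6, ha.e6]
    refine congrArg₂ T.x6 ?_ ?_ <;>
    · simp only [map_mul, map_pow, hs, RingEquiv.coe_trans, Function.comp]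
      ring
  · intro t
    rw [MulAut.mul_apply, hb.e7, ha.e7]
    refine congrArg T.x7 ?_
    simp only [map_mul, map_pow, hs, RingEquiv.coe_trans, Function.comp]
    ring
  · intro p u
    rw [MulAut.mul_apply, hb.e8, ha.e8]
    refine congrArg₂ T.x8 ?_ ?_ <;>
    · simp only [map_mul, map_pow, hs, RingEquiv.coe_trans, Function.comp]
      ring

theorem tor_one : T.IsTor 1 1 1 (RingEquiv.refl K) := by
  refine ⟨one_ne_zero, one_ne_zero, ?_, ?_, ?_, ?_, ?_, ?_, ?_, ?_⟩ <;> intros <;>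
    simp

/-- an automorphism `IsTor` is determined by its parameters -/
theorem tor_uniq {α β : MulAut U} {f g : K} {τ : K ≃+* K} (ha : T.IsTor α f g τ) (hb : T.IsTor β f g τ) : α = β := by
  have h : α.toMonoidHom = β.toMonoidHom := hom_ext T (fun t => (ha.e1 t).trans (hb.e1 t).symm)
    (fun p u => (ha.e2 p u).trans (hb.e2 p u).symm) (fun t => (ha.e3 t).trans (hb.e3 t).symm)
    (fun p u => (ha.e4 p u).trans (hb.e4 p u).symm) (fun t => (ha.e5 t).trans (hb.e5 t).symm)
    (fun p u => (ha.e6 p u).trans (hb.e6 p u).symm) (fun t => (ha.e7 t).trans (hb.e7 t).symm)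
    (fun p u => (ha.e8 p u).trans (hb.e8 p u).symm)
  exact MulEquiv.ext fun x => DFunLike.congr_fun h x

theorem tor_inv {m : ℕ} (hK : HypK σ m) {α : MulAut U} {f g : K} {τ : K ≃+* K} (ha : T.IsTor α f g τ) :
    T.IsTor α⁻¹ (τ.symm f⁻¹) (τ.symm g⁻¹) τ.symm := by
  obtain ⟨β, hb⟩ := exists_tor T hK (τ.symm f⁻¹) (τ.symm g⁻¹) τ.symm
    ((map_ne_zero τ.symm).2 (inv_ne_zero ha.nf)) ((map_ne_zero τ.symm).2 (inv_ne_zero ha.ng))
  have h1 := tor_mul hK ha hb
  rw [RingEquiv.apply_symm_apply, RingEquiv.apply_symm_apply, mul_inv_cancel₀ ha.nf, mul_inv_cancel₀ ha.ng,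
    RingEquiv.symm_trans_self] at h1
  have h2 : α * β = 1 := tor_uniq h1 tor_one
  rwa [inv_eq_of_mul_eq_one_right h2]

theorem mem_TT {m : ℕ} (hK : HypK σ m) {α : MulAut U} : α ∈ T.TT ↔ ∃ f g τ, T.IsTor α f g τ := by
  refine ⟨fun h => ?_, fun h => Subgroup.subset_closure h⟩
  refine Subgroup.closure_induction (p := fun α _ => ∃ f g τ, T.IsTor α f g τ) ?_ ?_ ?_ ?_ h
  · intro x hx
    exact hx
  · exact ⟨1, 1, _, tor_one⟩
  · rintro x y _ _ ⟨f, g, τ, h1⟩ ⟨f', g', τ', h2⟩
    exact ⟨_, _, _, tor_mul hK h1 h2⟩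
  · rintro x _ ⟨f, g, τ, h1⟩
    exact ⟨_, _, _, tor_inv hK h1⟩

end

end Cfsg.Agent.H805.TF
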