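import Cfsg.Agent.H752.TF.Ess3
import Cfsg.Agent.H752.TF.Inv

/-!
# S5262 (ESS1): `V ≤ R` for an essential subgroup `R` of the unipotent group of `²F₄(q)` (helper805)
-/

set_option autoImplicit false
set_option linter.unusedVariables false
set_option linter.unusedSimpArgs false

namespace Cfsg.Agent.H805.TF

open Cfsg Cfsg.FusionSystem Cfsg.Agent.Octagon.Pkg Cfsg.Agent.H745.TF Cfsg.Agent.H756.PU Cfsg.Agent.H802.TE
open Cfsg.Agent.H752.TF

universe u v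

section

variable {K : Type u} [Field K] {σ : K →+* K} {m : ℕ} (hK : HypK σ m)
variable {U : Type v} [Group U] (T : TF σ U)

/-- the coordinates of `C1 = X1 X2 X3 Z4 X5` -/
def InC1 (c : Cd K) : Prop := c.a4 = 0 ∧ c.a6 = 0 ∧ c.b6 = 0 ∧ c.a7 = 0 ∧ c.a8 = 0 ∧ c.b8 = 0

/-- the coordinates of `X1 Z2 X3 Z4 X5` -/
def InA15 (c : Cd K) : Prop :=
  c.a2 = 0 ∧ c.a4 = 0 ∧ c.a6 = 0 ∧ c.b6 = 0 ∧ c.a7 = 0 ∧ c.a8 = 0 ∧ c.b8 = 0

/-- the coordinates of `X4 Z6` -/
def InA (c : Cd K) : Prop :=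
  c.a1 = 0 ∧ c.a2 = 0 ∧ c.b2 = 0 ∧ c.a3 = 0 ∧ c.a5 = 0 ∧ c.a6 = 0 ∧ c.a7 = 0 ∧ c.a8 = 0 ∧ c.b8 = 0

/-- the coordinates of `Z2 X3 Z4` -/
def InW (c : Cd K) : Prop :=
  c.a1 = 0 ∧ c.a2 = 0 ∧ c.a4 = 0 ∧ c.a5 = 0 ∧ c.a6 = 0 ∧ c.b6 = 0 ∧ c.a7 = 0 ∧ c.a8 = 0 ∧ c.b8 = 0

/-- the coordinates of `Z6` -/
def InB (c : Cd K) : Prop :=
  c.a1 = 0 ∧ c.a2 = 0 ∧ c.b2 = 0 ∧ c.a3 = 0 ∧ c.a4 = 0 ∧ c.b4 = 0 ∧ c.a5 = 0 ∧ c.a6 = 0 ∧ c.a7 = 0 ∧ c.a8 = 0 ∧
    c.b8 = 0

include hK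

/-- `C_U(x1(t)) ≤ X1 X2 X3 Z4 X5` -/
theorem C1_of_comm {t : K} (ht : t ≠ 0) {g : U} (h : g * T.x1 t = T.x1 t * g) : InC1 (co T g) := by
  have hσt : σ t ≠ 0 := (map_ne_zero σ).2 ht
  have e := congrArg (co T) h
  rw [co_mul hK, co_mul hK, co_x1] at e
  generalize co T g = c at e ⊢
  have f2 := congrArg Cd.a2 e
  rw [mul_a2, mul_a2] at f2
  simp only [e1, zero_mul, mul_zero, add_zero, zero_add, map_zero] at f2
  have h8 : c.a8 = 0 := by
    have : c.a8 * t = 0 := by linear_combination f2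
    exact (mul_eq_zero.1 this).resolve_right ht
  have f4 := congrArg Cd.a4 e
  rw [mul_a4, mul_a4] at f4
  simp only [e1, h8, zero_mul, mul_zero, add_zero, zero_add, map_zero] at f4
  have k8 : c.b8 = 0 := by
    have : c.b8 * σ t = 0 := by linear_combination f4
    exact (mul_eq_zero.1 this).resolve_right hσt
  have f5 := congrArg Cd.a5 e
  rw [mul_a5, mul_a5] at f5
  simp only [e1, h8, k8, zero_mul, mul_zero, add_zero, zero_add, map_zero, pow_zero, ne_eq, OfNat.ofNat_ne_zero,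
    not_false_eq_true, zero_pow] at f5
  have h7 : c.a7 = 0 := by
    have : σ c.a7 * t = 0 := by linear_combination f5
    exact (map_eq_zero σ).1 ((mul_eq_zero.1 this).resolve_right ht)
  have f3 := congrArg Cd.a3 e
  rw [mul_a3, mul_a3] at f3
  simp only [e1, h8, k8, h7, zero_mul, mul_zero, add_zero, zero_add, map_zero, pow_zero, ne_eq, OfNat.ofNat_ne_zero,
    not_false_eq_true, zero_pow] at f3
  have h6 : c.a6 = 0 := by
    have : σ c.a6 * t = 0 := by linear_combination f3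
    exact (map_eq_zero σ).1 ((mul_eq_zero.1 this).resolve_right ht)
  have g2 := congrArg Cd.b2 e
  rw [mul_b2, mul_b2] at g2
  simp only [e1, h8, k8, h7, h6, zero_mul, mul_zero, add_zero, zero_add, map_zero, pow_zero, ne_eq,
    OfNat.ofNat_ne_zero, not_false_eq_true, zero_pow] at g2
  have h4 : c.a4 = 0 := by
    have : c.a4 * t = 0 := by linear_combination g2
    exact (mul_eq_zero.1 this).resolve_right ht
  have g4 := congrArg Cd.b4 e
  rw [mul_b4, mul_b4] at g4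
  simp only [e1, h8, k8, h7, h6, h4, zero_mul, mul_zero, add_zero, zero_add, map_zero, pow_zero, ne_eq,
    OfNat.ofNat_ne_zero, not_false_eq_true, zero_pow] at g4
  have k6 : c.b6 = 0 := by
    have : c.b6 * t = 0 := by linear_combination g4
    exact (mul_eq_zero.1 this).resolve_right ht
  exact ⟨h4, h6, k6, h7, h8, k8⟩

/-- `X1 Z2 X3 Z4` centralizes `C1` -/
theorem comm_C1 {g z : U} (hg : InC1 (co T g)) (hz : InA15 (co T z)) (h5 : (co T z).a5 = 0) : z * g = g * z := by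
  apply co_injective T
  rw [co_mul hK, co_mul hK]
  generalize co T g = c at hg ⊢
  generalize co T z = d at hz h5 ⊢
  obtain ⟨c1, c2, c3, c4, c5, c6⟩ := hg
  obtain ⟨d1, d2, d3, d4, d5, d6, d7⟩ := hz
  ext <;> simp only [mul_a1, mul_a2, mul_b2, mul_a3, mul_a4, mul_b4, mul_a5, mul_a6, mul_b6, mul_a7, mul_a8, mul_b8,
    c1, c2, c3, c4, c5, c6, d1, d2, d3, d4, d5, d6, d7, h5, zero_mul, mul_zero, add_zero, zero_add, map_zero, pow_zero,
    ne_eq, OfNat.ofNat_ne_zero, not_false_eq_true, zero_pow]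
  all_goals ring

/-- `X1 Z2 X3 Z4 X5` is abelian -/
theorem comm_A15 {g z : U} (hg : InA15 (co T g)) (hz : InA15 (co T z)) : z * g = g * z := by
  apply co_injective T
  rw [co_mul hK, co_mul hK]
  generalize co T g = c at hg ⊢
  generalize co T z = d at hz ⊢
  obtain ⟨c1, c2, c3, c4, c5, c6, c7⟩ := hg
  obtain ⟨d1, d2, d3, d4, d5, d6, d7⟩ := hz
  ext <;> simp only [mul_a1, mul_a2, mul_b2, mul_a3, mul_a4, mul_b4, mul_a5, mul_a6, mul_b6, mul_a7, mul_a8, mul_b8,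
    c1, c2, c3, c4, c5, c6, c7, d1, d2, d3, d4, d5, d6, d7, zero_mul, mul_zero, add_zero, zero_add, map_zero, pow_zero,
    ne_eq, OfNat.ofNat_ne_zero, not_false_eq_true, zero_pow]
  all_goals ring

/-- `[X4 Z6, C1] ≤ Z2 X3 Z4` -/
theorem comm_A_C1 {a g : U} (ha : InA (co T a)) (hg : InC1 (co T g)) :
    co T (a * g * a⁻¹ * g⁻¹) = ⟨0, 0, (co T a).a4 * (co T g).a1, (co T a).a4 * (co T g).a2, 0,
      (co T a).b6 * (co T g).a1, 0, 0, 0, 0, 0, 0⟩ := by
  apply co_comm hK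
  generalize co T g = c at hg ⊢
  generalize co T a = d at ha ⊢
  obtain ⟨c1, c2, c3, c4, c5, c6⟩ := hg
  obtain ⟨d1, d2, d3, d4, d5, d6, d7, d8, d9⟩ := ha
  have h2 := hK.two
  ext <;> simp only [mul_a1, mul_a2, mul_b2, mul_a3, mul_a4, mul_b4, mul_a5, mul_a6, mul_b6, mul_a7, mul_a8, mul_b8,
    c1, c2, c3, c4, c5, c6, d1, d2, d3, d4, d5, d6, d7, d8, d9, zero_mul, mul_zero, add_zero, zero_add, map_zero,
    pow_zero, ne_eq, OfNat.ofNat_ne_zero, not_false_eq_true, zero_pow]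
  all_goals first | ring1 | grind

/-- `QA` normalizes `X1 Z2 X3 Z4 X5` -/
theorem conj_A15 {x g : U} (hx : x ∈ T.QA) (hg : InA15 (co T g)) : InA15 (co T (x * g * x⁻¹)) := by
  have e : co T (x * g * x⁻¹ * x) = co T (x * g) := by rw [inv_mul_cancel_right]
  rw [co_mul hK T _ x, co_mul hK T x g] at e
  rw [mem_QA hK] at hx
  generalize co T (x * g * x⁻¹) = h at e ⊢
  generalize co T x = y at e hx
  generalize co T g = c at e hg
  obtain ⟨y8, z8⟩ := hx
  obtain ⟨c1, c2, c3, c4, c5, c6, c7⟩ := hg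
  have f8 := congrArg Cd.a8 e
  simp only [mul_a8, y8, z8, c1, c2, c3, c4, c5, c6, c7, zero_mul, mul_zero, add_zero, zero_add, map_zero] at f8
  have g8 := congrArg Cd.b8 e
  simp only [mul_b8, y8, z8, c1, c2, c3, c4, c5, c6, c7, f8, zero_mul, mul_zero, add_zero, zero_add, map_zero] at g8
  have f2 := congrArg Cd.a2 e
  simp only [mul_a2, y8, z8, c1, c2, c3, c4, c5, c6, c7, f8, g8, zero_mul, mul_zero, add_zero, zero_add,
    map_zero] at f2
  replace f2 : h.a2 = 0 := by linear_combination f2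
  have f4 := congrArg Cd.a4 e
  simp only [mul_a4, y8, z8, c1, c2, c3, c4, c5, c6, c7, f8, g8, f2, zero_mul, mul_zero, add_zero, zero_add,
    map_zero] at f4
  replace f4 : h.a4 = 0 := by linear_combination f4
  have f6 := congrArg Cd.a6 e
  simp only [mul_a6, y8, z8, c1, c2, c3, c4, c5, c6, c7, f8, g8, f2, f4, zero_mul, mul_zero, add_zero, zero_add,
    map_zero] at f6
  replace f6 : h.a6 = 0 := by linear_combination f6
  have f7 := congrArg Cd.a7 e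
  simp only [mul_a7, y8, z8, c1, c2, c3, c4, c5, c6, c7, f8, g8, f2, f4, f6, zero_mul, mul_zero, add_zero, zero_add,
    map_zero, pow_zero, ne_eq, OfNat.ofNat_ne_zero, not_false_eq_true, zero_pow] at f7
  replace f7 : h.a7 = 0 := by linear_combination f7
  have g6 := congrArg Cd.b6 e
  simp only [mul_b6, y8, z8, c1, c2, c3, c4, c5, c6, c7, f8, g8, f2, f4, f6, f7, zero_mul, mul_zero, add_zero,
    zero_add, map_zero, pow_zero, ne_eq, OfNat.ofNat_ne_zero, not_false_eq_true, zero_pow] at g6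
  replace g6 : h.b6 = 0 := by linear_combination g6
  exact ⟨f2, f4, f6, g6, f7, f8, g8⟩

/-- `Z4` is central -/
theorem comm_Z4' {z g : U} (hz : z ∈ T.Z4) : z * g = g * z := by
  obtain ⟨u, rfl⟩ := (mem_Z4 hK T).1 hz
  apply co_injective T
  rw [co_mul hK, co_mul hK, co_x4]
  generalize co T g = c
  ext <;> simp only [mul_a1, mul_a2, mul_b2, mul_a3, mul_a4, mul_b4, mul_a5, mul_a6, mul_b6, mul_a7, mul_a8, mul_b8,
    e4, zero_mul, mul_zero, add_zero, zero_add, map_zero, pow_zero, ne_eq, OfNat.ofNat_ne_zero, not_false_eq_true,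
    zero_pow]
  all_goals ring

/-- `[V, U] ≤ Z4` -/
theorem comm_V {a g : U} (ha : a ∈ T.V) :
    co T (a * g * a⁻¹ * g⁻¹) = ⟨0, 0, 0, 0, 0, (co T a).b6 * (co T g).a1, 0, 0, 0, 0, 0, 0⟩ := by
  apply co_comm hK
  rw [mem_V hK] at ha
  generalize co T g = c
  generalize co T a = d at ha ⊢
  obtain ⟨d1, d2, d3, d4, d5, d6, d7, d8, d9, d10⟩ := ha
  have h2 := hK.two
  ext <;> simp only [mul_a1, mul_a2, mul_b2, mul_a3, mul_a4, mul_b4, mul_a5, mul_a6, mul_b6, mul_a7, mul_a8, mul_b8,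
    d1, d2, d3, d4, d5, d6, d7, d8, d9, d10, zero_mul, mul_zero, add_zero, zero_add, map_zero,
    pow_zero, ne_eq, OfNat.ofNat_ne_zero, not_false_eq_true, zero_pow]
  all_goals first | ring1 | grind

/-- the subgroups with given coordinates -/
theorem exists_A : ∃ S : Subgroup U, (∀ g, g ∈ S ↔ InA (co T g)) ∧ Nat.card S = (2 ^ (2 * m + 1)) ^ 3 := by
  obtain ⟨S, hS⟩ := exists_sub hK T InA ⟨rfl, rfl, rfl, rfl, rfl, rfl, rfl, rfl, rfl⟩ (by
    rintro c d ⟨c1, c2, c3, c4, c5, c6, c7, c8, c9⟩ ⟨d1, d2, d3, d4, d5, d6, d7, d8, d9⟩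
    refine ⟨?_, ?_, ?_, ?_, ?_, ?_, ?_, ?_, ?_⟩ <;>
    simp only [mul_a1, mul_a2, mul_b2, mul_a3, mul_a4, mul_b4, mul_a5, mul_a6, mul_b6, mul_a7, mul_a8, mul_b8,
      c1, c2, c3, c4, c5, c6, c7, c8, c9, d1, d2, d3, d4, d5, d6, d7, d8, d9, zero_mul, mul_zero, add_zero, zero_add,
      map_zero, pow_zero, ne_eq, OfNat.ofNat_ne_zero, not_false_eq_true, zero_pow])
  refine ⟨S, hS, ?_⟩
  refine card_of_mask hK T ![false, false, false, false, true, true, false, false, true, false, false, false] (by rfl)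
    S fun g => ?_
  rw [hS]
  constructor
  · rintro ⟨z0, z1, z2, z3, z4, z5, z6, z7, z8⟩ i hi
    fin_cases i <;> first | exact z0 | exact z1 | exact z2 | exact z3 | exact z4 | exact z5 | exact z6 | exact z7 | exact z8 | exact absurd hi (by decide)
  · intro h
    exact ⟨h 0 rfl, h 1 rfl, h 2 rfl, h 3 rfl, h 6 rfl, h 7 rfl, h 9 rfl, h 10 rfl, h 11 rfl⟩

theorem exists_W : ∃ S : Subgroup U, (∀ g, g ∈ S ↔ InW (co T g)) ∧ Nat.card S = (2 ^ (2 * m + 1)) ^ 3 := by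
  obtain ⟨S, hS⟩ := exists_sub hK T InW ⟨rfl, rfl, rfl, rfl, rfl, rfl, rfl, rfl, rfl⟩ (by
    rintro c d ⟨c1, c2, c3, c4, c5, c6, c7, c8, c9⟩ ⟨d1, d2, d3, d4, d5, d6, d7, d8, d9⟩
    refine ⟨?_, ?_, ?_, ?_, ?_, ?_, ?_, ?_, ?_⟩ <;>
    simp only [mul_a1, mul_a2, mul_b2, mul_a3, mul_a4, mul_b4, mul_a5, mul_a6, mul_b6, mul_a7, mul_a8, mul_b8,
      c1, c2, c3, c4, c5, c6, c7, c8, c9, d1, d2, d3, d4, d5, d6, d7, d8, d9, zero_mul, mul_zero, add_zero, zero_add,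
      map_zero, pow_zero, ne_eq, OfNat.ofNat_ne_zero, not_false_eq_true, zero_pow])
  refine ⟨S, hS, ?_⟩
  refine card_of_mask hK T ![false, false, true, true, false, true, false, false, false, false, false, false] (by rfl)
    S fun g => ?_
  rw [hS]
  constructor
  · rintro ⟨z0, z1, z2, z3, z4, z5, z6, z7, z8⟩ i hi
    fin_cases i <;> first | exact z0 | exact z1 | exact z2 | exact z3 | exact z4 | exact z5 | exact z6 | exact z7 | exact z8 | exact absurd hi (by decide)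
  · intro h
    exact ⟨h 0 rfl, h 1 rfl, h 4 rfl, h 6 rfl, h 7 rfl, h 8 rfl, h 9 rfl, h 10 rfl, h 11 rfl⟩

theorem exists_B : ∃ S : Subgroup U, (∀ g, g ∈ S ↔ InB (co T g)) := by
  exact exists_sub hK T InB ⟨rfl, rfl, rfl, rfl, rfl, rfl, rfl, rfl, rfl, rfl, rfl⟩ (by
    rintro c d ⟨c1, c2, c3, c4, c5, c6, c7, c8, c9, c10, c11⟩ ⟨d1, d2, d3, d4, d5, d6, d7, d8, d9, d10, d11⟩
    refine ⟨?_, ?_, ?_, ?_, ?_, ?_, ?_, ?_, ?_, ?_, ?_⟩ <;>
    simp only [mul_a1, mul_a2, mul_b2, mul_a3, mul_a4, mul_b4, mul_a5, mul_a6, mul_b6, mul_a7, mul_a8, mul_b8,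
      c1, c2, c3, c4, c5, c6, c7, c8, c9, c10, c11, d1, d2, d3, d4, d5, d6, d7, d8, d9, d10, d11, zero_mul, mul_zero,
      add_zero, zero_add, map_zero, pow_zero, ne_eq, OfNat.ofNat_ne_zero, not_false_eq_true, zero_pow])

/-- the order of `X1 Z2 X3 Z4 X5` -/
theorem card_A15 {S : Subgroup U} (hS : ∀ g, g ∈ S ↔ InA15 (co T g)) : Nat.card S = (2 ^ (2 * m + 1)) ^ 5 := by
  refine card_of_mask hK T ![true, false, true, true, false, true, true, false, false, false, false, false] (by rfl)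
    S fun g => ?_
  rw [hS]
  constructor
  · rintro ⟨z0, z1, z2, z3, z4, z5, z6⟩ i hi
    fin_cases i <;> first | exact z0 | exact z1 | exact z2 | exact z3 | exact z4 | exact z5 | exact z6 | exact absurd hi (by decide)
  · intro h
    exact ⟨h 1 rfl, h 4 rfl, h 7 rfl, h 8 rfl, h 9 rfl, h 10 rfl, h 11 rfl⟩

end

/-- a subgroup `A` with `x R x⁻¹ ≤ R` for `x ∈ A` normalizes `R` -/
theorem le_normIn {U : Type*} [Group U] {A R : Subgroup U} (h : ∀ x ∈ A, ∀ e ∈ R, x * e * x⁻¹ ∈ R) :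
    A ≤ normalizerIn ⊤ R := by
  intro x hx
  refine Subgroup.mem_inf.2 ⟨Subgroup.mem_top _, ?_⟩
  rw [Subgroup.mem_normalizer_iff]
  intro e
  refine ⟨h x hx e, fun h1 => ?_⟩
  have h2 := h x⁻¹ (A.inv_mem hx) _ h1
  rwa [inv_inv, ← mul_assoc, ← mul_assoc, inv_mul_cancel, one_mul, inv_mul_cancel_right] at h2

/-- the case where `Z(R)` contains `x1 t` -/
theorem ess1_x1 (hp2 : StP2.{v}) (hbd : StBd.{v}) (hphi : StPhi.{v}) {K : Type u} [Field K] {σ : K →+* K} {m : ℕ}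
    (hK : HypK σ m) {U : Type v} [Group U] (T : TF σ U) {R : Subgroup U} {Γ : Subgroup (MulAut R)}
    (hE : Ess (⊤ : Subgroup U) R 2 Γ) {t : K} (ht : t ≠ 0) (hc : ∀ r ∈ R, r * T.x1 t = T.x1 t * r) : False := by
  haveI := finite_U hK T
  haveI := hK.fin
  have hpR : IsPGroup 2 R := hE.pgr.of_injective (Subgroup.inclusion hE.E_le) (Subgroup.inclusion_injective _)
  obtain ⟨hΦR, hRR, hsq, -, -, -⟩ := hphi R 2 Nat.prime_two inferInstance hpR
  have hC : ∀ r ∈ R, InC1 (co T r) := fun r hr => C1_of_comm hK T ht (hc r hr)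
  set q := 2 ^ (2 * m + 1) with hq
  have hq1 : 1 < q := Nat.one_lt_two_pow (by omega)
  -- `X1 Z2 X3 Z4 ≤ R`
  have hZR : ∀ z : U, InA15 (co T z) → (co T z).a5 = 0 → z ∈ R := fun z hz h5 =>
    hE.cent z (Subgroup.mem_top _) fun e he => comm_C1 hK T (hC e he) hz h5
  obtain ⟨A, hA, hAc⟩ := exists_A hK T
  obtain ⟨W, hW, hWc⟩ := exists_W hK T
  obtain ⟨B, hB⟩ := exists_B hK T
  have hWR : W ≤ R := by
    intro w hw
    obtain ⟨h1, h2, h3, h4, h5, h6, h7, h8, h9⟩ := (hW w).1 hw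
    exact hZR w ⟨h2, h3, h5, h6, h7, h8, h9⟩ h4
  have hZ4R : T.Z4 ≤ R := fun z hz => hE.cent z (Subgroup.mem_top _) fun e _ => comm_Z4' hK T hz
  have hAW : ∀ a ∈ A, ∀ e ∈ R, a * e * a⁻¹ * e⁻¹ ∈ W := by
    intro a ha e he
    rw [hW, comm_A_C1 hK T ((hA a).1 ha) (hC e he)]
    exact ⟨rfl, rfl, rfl, rfl, rfl, rfl, rfl, rfl, rfl⟩
  have hBA : B ≤ A := by
    intro b hb
    obtain ⟨h1, h2, h3, h4, h5, h6, h7, h8, h9, h10, h11⟩ := (hB b).1 hb
    exact (hA b).2 ⟨h1, h2, h3, h4, h7, h8, h9, h10, h11⟩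
  have hBZ : ∀ b ∈ B, ∀ e ∈ R, b * e * b⁻¹ * e⁻¹ ∈ T.Z4 := by
    intro b hb e he
    have h1 := comm_A_C1 hK T ((hA b).1 (hBA hb)) (hC e he)
    obtain ⟨-, -, -, -, h5, -⟩ := (hB b).1 hb
    refine (mem_Z4 hK T).2 ⟨(co T b).b6 * (co T e).a1, ?_⟩
    apply co_injective T
    rw [h1, co_x4, h5, zero_mul, zero_mul]
    rfl
  have hnormA : A ≤ normalizerIn ⊤ R := by
    refine le_normIn fun x hx e he => ?_
    have h2 : x * e * x⁻¹ = x * e * x⁻¹ * e⁻¹ * e := by group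
    rw [h2]
    exact R.mul_mem (hWR (hAW x hx e he)) he
  have hBR : ¬ B ≤ R := by
    intro h
    have h1 : T.x6 0 1 ∈ B := by
      rw [hB, co_x6]
      exact ⟨rfl, rfl, rfl, rfl, rfl, rfl, rfl, rfl, rfl, rfl, rfl⟩
    have h2 := (hC _ (h h1)).2.2.1
    rw [co_x6] at h2
    exact one_ne_zero h2
  -- (P2)
  have hP := hp2 hE A B W T.Z4 (W ⊓ Phi R) ⊥ hnormA (hBA.trans hnormA) hBR hWR hZ4R hAW hBZ inf_le_right bot_le
  have hAR : A ⊓ R ≤ T.Z4 := by
    intro a ha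
    obtain ⟨h1, h2, h3, h4, h5, h6, h7, h8, h9⟩ := (hA a).1 ha.1
    obtain ⟨k1, k2, k3, k4, k5, k6⟩ := hC a ha.2
    refine (mem_Z4 hK T).2 ⟨(co T a).b4, ?_⟩
    apply co_injective T
    rw [co_x4]
    ext <;> first | exact h1 | exact h2 | exact h3 | exact h4 | exact h5 | exact h6 | exact h7 | exact h8 | exact h9 | exact k1 | exact k2 | exact k3 | rfl
  have hcAR : Nat.card (A ⊓ R : Subgroup U) ≤ q := by
    rw [hq, ← card_Z4 hK T]
    exact Subgroup.card_le_of_le hAR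
  have c1 : (A ⊓ R).relIndex A * Nat.card (A ⊓ R : Subgroup U) = q ^ 3 := by
    rw [relc inf_le_left, hAc]
  have c1' : R.relIndex A = (A ⊓ R).relIndex A := by rw [Subgroup.inf_relIndex_left]
  have hidx : q ^ 2 ≤ R.relIndex A := by
    rw [c1']
    by_contra hh
    have h1 : (A ⊓ R).relIndex A * Nat.card (A ⊓ R : Subgroup U) < q ^ 2 * q :=
      Nat.mul_lt_mul_of_lt_of_le (not_le.1 hh) hcAR (by omega)
    rw [c1] at h1
    exact absurd h1 (by rw [← pow_succ]; exact lt_irrefl _)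
  have c2 : (W ⊓ Phi R).relIndex W * Nat.card (W ⊓ Phi R : Subgroup U) = q ^ 3 := by
    rw [relc inf_le_left, hWc]
  have hZidx : (⊥ : Subgroup U).relIndex T.Z4 = q := by
    rw [Subgroup.relIndex_bot_left, card_Z4 hK T]
  rw [hZidx] at hP
  have hW1 : Nat.card (W ⊓ Phi R : Subgroup U) = 1 := by
    have h1 : (q ^ 2) ^ 2 ≤ (W ⊓ Phi R).relIndex W * q := (Nat.pow_le_pow_left hidx 2).trans hP
    have h2 : q ^ 3 ≤ (W ⊓ Phi R).relIndex W := by
      by_contra hh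
      have h3 : (W ⊓ Phi R).relIndex W * q < q ^ 3 * q := Nat.mul_lt_mul_of_pos_right (not_le.1 hh) (by omega)
      have h4 : (q ^ 2) ^ 2 = q ^ 3 * q := by ring
      rw [h4] at h1
      exact absurd h3 (not_lt.2 h1)
    have h3 : 0 < Nat.card (W ⊓ Phi R : Subgroup U) := Nat.card_pos
    by_contra hne
    have h4 : q ^ 3 * 2 ≤ (W ⊓ Phi R).relIndex W * Nat.card (W ⊓ Phi R : Subgroup U) :=
      Nat.mul_le_mul h2 (by omega)
    rw [c2] at h4
    have h5 : 0 < q ^ 3 := by positivity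
    omega
  have hWbot : ∀ x ∈ W, x ∈ Phi R → x = 1 := by
    intro x hx hx'
    have h1 := Subgroup.card_eq_one.1 hW1
    have h2 : x ∈ (W ⊓ Phi R : Subgroup U) := ⟨hx, hx'⟩
    rw [h1] at h2
    exact Subgroup.mem_bot.1 h2
  -- `R ≤ A15`
  have hR15 : ∀ r ∈ R, InA15 (co T r) := by
    intro r hr
    obtain ⟨k1, k2, k3, k4, k5, k6⟩ := hC r hr
    refine ⟨?_, k1, k2, k3, k4, k5, k6⟩
    have h2 := hK.two
    have h1 : co T (r * r) = ⟨0, 0, (co T r).a2 * σ (co T r).a2, 0, 0, (co T r).a5 * (co T r).a2, 0, 0, 0, 0, 0, 0⟩ := by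
      rw [co_mul hK]
      generalize co T r = c at k1 k2 k3 k4 k5 k6 ⊢
      ext <;> simp only [mul_a1, mul_a2, mul_b2, mul_a3, mul_a4, mul_b4, mul_a5, mul_a6, mul_b6, mul_a7, mul_a8,
        mul_b8, k1, k2, k3, k4, k5, k6, zero_mul, mul_zero, add_zero, zero_add, map_zero,
        pow_zero, ne_eq, OfNat.ofNat_ne_zero, not_false_eq_true, zero_pow]
      all_goals first | ring1 | grind
    have h3 : r * r ∈ W := by
      rw [hW, h1]
      exact ⟨rfl, rfl, rfl, rfl, rfl, rfl, rfl, rfl, rfl⟩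
    have h4 : r * r ∈ Phi R := by
      rw [← sq]
      exact hsq r hr
    have h5 := hWbot _ h3 h4
    rw [h5, co_one] at h1
    have h6 := congrArg Cd.b2 h1
    rcases mul_eq_zero.1 h6.symm with h | h
    · exact h
    · exact (map_eq_zero σ).1 h
  have hR : ∀ g, g ∈ R ↔ InA15 (co T g) := fun g =>
    ⟨hR15 g, fun h => hE.cent g (Subgroup.mem_top _) fun e he => comm_A15 hK T (hR15 e he) h⟩
  have hRc : Nat.card R = q ^ 5 := card_A15 hK T hR
  have hnQA : T.QA ≤ normalizerIn ⊤ R := le_normIn fun x hx e he => (hR _).2 (conj_A15 hK T hx ((hR e).1 he))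
  have hRQ : R ≤ T.QA := by
    intro r hr
    rw [mem_QA hK]
    exact ⟨(hR15 r hr).2.2.2.2.2.1, (hR15 r hr).2.2.2.2.2.2⟩
  have hb := hbd hE T.QA ⊥ hnQA bot_le
  have hb1 := relc hRQ
  rw [card_QA hK, hRc] at hb1
  rw [Subgroup.relIndex_bot_left, hRc] at hb
  have hb2 : R.relIndex T.QA = q ^ 5 := by
    have h5 : 0 < q ^ 5 := by positivity
    have h6 : R.relIndex T.QA * q ^ 5 = q ^ 5 * q ^ 5 := hb1.trans (pow_add q 5 5)
    exact Nat.eq_of_mul_eq_mul_right h5 h6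
  rw [hb2] at hb
  have h8 : 1 < q ^ 5 := Nat.one_lt_pow (by norm_num) hq1
  have h7 : q ^ 5 < (q ^ 5) ^ 2 := by
    rw [sq]
    exact lt_mul_of_one_lt_left (by omega) h8
  exact absurd hb (not_le.2 h7)

/-- (ESS1) from the engine -/
theorem stEss1_of (hp2 : StP2.{v}) (hhull : StHull.{v}) (hcj : StConj.{v}) (hbd : StBd.{v}) (hphi : StPhi.{v})
    (hinv : StInv.{u, v}) : StEss1.{u, v} := by
  intro K _ σ m hK U _ T R Γ hE
  by_contra hVR
  haveI := finite_U hK T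
  haveI := hK.fin
  have hZ4R : T.Z4 ≤ R := fun z hz => hE.cent z (Subgroup.mem_top _) fun e _ => comm_Z4' hK T hz
  obtain ⟨γ, hγ, y0, hy0, a, ha, hcon⟩ := hhull hE T.V T.Z4 le_top hZ4R (by
    intro a ha e he
    refine (mem_Z4 hK T).2 ⟨(co T a).b6 * (co T e).a1, ?_⟩
    apply co_injective T
    rw [comm_V hK T ha, co_x4]
    rfl) hVR
  set y : U := ((γ y0 : R) : U) with hy
  have hyR : y ∈ R := (γ y0).2
  have hyc : ∀ r ∈ R, y * r = r * y := by
    intro r hr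
    have h1 : y0 * γ⁻¹ ⟨r, hr⟩ = γ⁻¹ ⟨r, hr⟩ * y0 := by
      apply Subtype.ext
      exact comm_Z4' hK T hy0
    have h2 := congrArg (fun e : R => ((γ e : R) : U)) h1
    simp only [map_mul, MulAut.apply_inv_self, Subgroup.coe_mul] at h2
    exact h2
  have hyy : y * y = 1 := by
    have h0 : y0 * y0 = 1 := by
      apply Subtype.ext
      obtain ⟨w, hw⟩ := (mem_Z4 hK T).1 hy0
      rw [Subgroup.coe_mul, hw]
      apply co_injective T
      rw [co_mul hK, co_x4, Subgroup.coe_one, co_one]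
      have h2 := hK.two
      ext <;> simp only [mul_a1, mul_a2, mul_b2, mul_a3, mul_a4, mul_b4, mul_a5, mul_a6, mul_b6, mul_a7, mul_a8,
        mul_b8, e4, zero_mul, mul_zero, add_zero, zero_add, map_zero, pow_zero, ne_eq, OfNat.ofNat_ne_zero,
        not_false_eq_true, zero_pow]
      all_goals first | ring1 | grind
    have h1 := congrArg (fun e : R => ((γ e : R) : U)) h0
    simpa only [map_mul, map_one, Subgroup.coe_mul, Subgroup.coe_one] using h1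
  have hyQ : y ∉ T.QB := by
    intro h
    rw [mem_QB hK] at h
    apply hcon
    have h1 : a * y * a⁻¹ * y⁻¹ = 1 := by
      apply co_injective T
      rw [comm_V hK T ha, co_one, h, mul_zero]
    rw [h1]
    exact (Phi R).one_mem
  obtain ⟨x, t, ht, hx⟩ := hinv hK T y hyy hyQ
  obtain ⟨Γ', hE'⟩ := hcj hE x (Subgroup.mem_top _)
  refine ess1_x1 hp2 hbd hphi hK T hE' ht ?_
  rintro _ ⟨r, hr, rfl⟩
  change x * r * x⁻¹ * T.x1 t = T.x1 t * (x * r * x⁻¹)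
  rw [← hx]
  have h1 := hyc r hr
  calc x * r * x⁻¹ * (x * y * x⁻¹) = x * (r * y) * x⁻¹ := by group
    _ = x * (y * r) * x⁻¹ := by rw [h1]
    _ = x * y * x⁻¹ * (x * r * x⁻¹) := by group

end Cfsg.Agent.H805.TF
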