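import Cfsg.Agent.H805.TF.Tor
import Cfsg.Agent.KFacts.TwF4.SylU
import Cfsg.Agent.S1068

/-!
# S5262: the model of `TF` in `²F₄(q)` (helper805)
-/

set_option autoImplicit false

namespace Cfsg.Agent.H805.TF

open Cfsg.Agent.Octagon.Pkg Cfsg.Agent.H745.TF
open Cfsg.Agent.SplitTwo Cfsg.Agent.SplitTwo.ZS Cfsg.Agent.TitsThree.RankTwoZ Cfsg.Agent.KFacts.TwF4
open Cfsg.Agent.KFacts.TwF4.Arc

universe u v w

section abs

variable {G : Type u} [Group G] {X : ℤ → Subgroup G} {m : ℤ} (Z : ZSys m X)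
include Z

/-- the first factor of a product is unique -/
theorem first_uniq {a b : ℤ} (hb : b < a + m) {x x' y y' : G} (hx : x ∈ X a) (hx' : x' ∈ X a)
    (hy : y ∈ J X (a + 1) b) (hy' : y' ∈ J X (a + 1) b) (h : x * y = x' * y') : x = x' ∧ y = y' := by
  have e : x'⁻¹ * x = y' * y⁻¹ := by
    rw [eq_mul_inv_iff_mul_eq, mul_assoc, h, inv_mul_cancel_left]
  have h1 : x'⁻¹ * x ∈ X a := mul_mem (inv_mem hx') hx
  have h2 : x'⁻¹ * x ∈ J X (a + 1) (a + m - 1) := by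
    rw [e]
    exact J_mono le_rfl (by omega) (mul_mem hy' (inv_mem hy))
  have h3 := Z.inter a _ h1 h2
  have h4 : x = x' := (inv_mul_eq_one.1 h3).symm
  subst h4
  exact ⟨rfl, mul_left_cancel h⟩

end abs

section model

variable {F : Type u} [Field F] {σ : F →+* F} {G : Type v} [Group G] (S : Full σ G)

theorem o0_mem (t : F) : S.o 0 t ∈ S.XZ 1 := (mem_X1 S).2 ⟨t, rfl⟩
theorem e1_mem (p u : F) : S.e 1 p u ∈ S.XZ 2 := (mem_X2 S).2 ⟨p, u, rfl⟩
theorem o1_mem (t : F) : S.o 1 t ∈ S.XZ 3 := (mem_X3 S).2 ⟨t, rfl⟩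
theorem e2_mem (p u : F) : S.e 2 p u ∈ S.XZ 4 := (mem_X4 S).2 ⟨p, u, rfl⟩
theorem o2_mem (t : F) : S.o 2 t ∈ S.XZ 5 := (mem_X5 S).2 ⟨t, rfl⟩
theorem e3_mem (p u : F) : S.e 3 p u ∈ S.XZ 6 := (mem_X6 S).2 ⟨p, u, rfl⟩
theorem o3_mem (t : F) : S.o 3 t ∈ S.XZ 7 := (mem_X7 S).2 ⟨t, rfl⟩
theorem e4_mem (p u : F) : S.e 4 p u ∈ S.XZ 8 := (mem_X8 S).2 ⟨p, u, rfl⟩

/-- existence of the ordered product -/
theorem exists_prod {g : G} (hg : g ∈ J S.XZ 1 8) : ∃ c : Cd F, g = S.o 0 c.a1 * S.e 1 c.a2 c.b2 * S.o 1 c.a3 *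
    S.e 2 c.a4 c.b4 * S.o 2 c.a5 * S.e 3 c.a6 c.b6 * S.o 3 c.a7 * S.e 4 c.a8 c.b8 := by
  have Z := S.zsys8
  obtain ⟨y1, h1, g1, hg1, e1⟩ := Z.split_ll (by norm_num) (by norm_num) hg
  obtain ⟨y2, h2, g2, hg2, e2⟩ := Z.split_ll (by norm_num) (by norm_num) hg1
  obtain ⟨y3, h3, g3, hg3, e3⟩ := Z.split_ll (by norm_num) (by norm_num) hg2
  obtain ⟨y4, h4, g4, hg4, e4⟩ := Z.split_ll (by norm_num) (by norm_num) hg3
  obtain ⟨y5, h5, g5, hg5, e5⟩ := Z.split_ll (by norm_num) (by norm_num) hg4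
  obtain ⟨y6, h6, g6, hg6, e6⟩ := Z.split_ll (by norm_num) (by norm_num) hg5
  obtain ⟨y7, h7, g7, hg7, e7⟩ := Z.split_ll (by norm_num) (by norm_num) hg6
  have hg7' : g7 ∈ S.XZ 8 := mem_of_J_self hg7 (by norm_num)
  norm_num at h1 h2 h3 h4 h5 h6 h7
  obtain ⟨t1, rfl⟩ := (mem_X1 S).1 h1
  obtain ⟨p2, u2, rfl⟩ := (mem_X2 S).1 h2
  obtain ⟨t3, rfl⟩ := (mem_X3 S).1 h3
  obtain ⟨p4, u4, rfl⟩ := (mem_X4 S).1 h4
  obtain ⟨t5, rfl⟩ := (mem_X5 S).1 h5
  obtain ⟨p6, u6, rfl⟩ := (mem_X6 S).1 h6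
  obtain ⟨t7, rfl⟩ := (mem_X7 S).1 h7
  obtain ⟨p8, u8, rfl⟩ := (mem_X8 S).1 hg7'
  refine ⟨⟨t1, p2, u2, t3, p4, u4, t5, p6, u6, t7, p8, u8⟩, ?_⟩
  rw [e1, e2, e3, e4, e5, e6, e7]
  simp only [mul_assoc]

/-- uniqueness of the ordered product -/
theorem prod_inj {c d : Cd F} (h : S.o 0 c.a1 * S.e 1 c.a2 c.b2 * S.o 1 c.a3 *
    S.e 2 c.a4 c.b4 * S.o 2 c.a5 * S.e 3 c.a6 c.b6 * S.o 3 c.a7 * S.e 4 c.a8 c.b8 = S.o 0 d.a1 * S.e 1 d.a2 d.b2 *
    S.o 1 d.a3 * S.e 2 d.a4 d.b4 * S.o 2 d.a5 * S.e 3 d.a6 d.b6 * S.o 3 d.a7 * S.e 4 d.a8 d.b8) : c = d := by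
  have Z := S.zsys8
  simp only [mul_assoc] at h
  have m8 : ∀ c : Cd F, S.e 4 c.a8 c.b8 ∈ J S.XZ 8 8 := fun c => mem_J (e4_mem S _ _) (by norm_num) (by norm_num)
  have m7 : ∀ c : Cd F, S.o 3 c.a7 * S.e 4 c.a8 c.b8 ∈ J S.XZ 7 8 := fun c =>
    mul_mem (mem_J (o3_mem S _) (by norm_num) (by norm_num)) (J_mono (by norm_num) (by norm_num) (m8 c))
  have m6 : ∀ c : Cd F, S.e 3 c.a6 c.b6 * (S.o 3 c.a7 * S.e 4 c.a8 c.b8) ∈ J S.XZ 6 8 := fun c =>
    mul_mem (mem_J (e3_mem S _ _) (by norm_num) (by norm_num)) (J_mono (by norm_num) (by norm_num) (m7 c))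
  have m5 : ∀ c : Cd F, S.o 2 c.a5 * (S.e 3 c.a6 c.b6 * (S.o 3 c.a7 * S.e 4 c.a8 c.b8)) ∈ J S.XZ 5 8 := fun c =>
    mul_mem (mem_J (o2_mem S _) (by norm_num) (by norm_num)) (J_mono (by norm_num) (by norm_num) (m6 c))
  have m4 : ∀ c : Cd F, S.e 2 c.a4 c.b4 * (S.o 2 c.a5 * (S.e 3 c.a6 c.b6 * (S.o 3 c.a7 * S.e 4 c.a8 c.b8))) ∈
      J S.XZ 4 8 := fun c =>
    mul_mem (mem_J (e2_mem S _ _) (by norm_num) (by norm_num)) (J_mono (by norm_num) (by norm_num) (m5 c))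
  have m3 : ∀ c : Cd F, S.o 1 c.a3 * (S.e 2 c.a4 c.b4 * (S.o 2 c.a5 * (S.e 3 c.a6 c.b6 * (S.o 3 c.a7 *
      S.e 4 c.a8 c.b8)))) ∈ J S.XZ 3 8 := fun c =>
    mul_mem (mem_J (o1_mem S _) (by norm_num) (by norm_num)) (J_mono (by norm_num) (by norm_num) (m4 c))
  have m2 : ∀ c : Cd F, S.e 1 c.a2 c.b2 * (S.o 1 c.a3 * (S.e 2 c.a4 c.b4 * (S.o 2 c.a5 * (S.e 3 c.a6 c.b6 *
      (S.o 3 c.a7 * S.e 4 c.a8 c.b8))))) ∈ J S.XZ 2 8 := fun c =>
    mul_mem (mem_J (e1_mem S _ _) (by norm_num) (by norm_num)) (J_mono (by norm_num) (by norm_num) (m3 c))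
  obtain ⟨h1, h⟩ := first_uniq Z (a := 1) (b := 8) (by norm_num) (o0_mem S _) (o0_mem S _) (m2 c) (m2 d) h
  obtain ⟨h2, h⟩ := first_uniq Z (a := 2) (b := 8) (by norm_num) (e1_mem S _ _) (e1_mem S _ _) (m3 c) (m3 d) h
  obtain ⟨h3, h⟩ := first_uniq Z (a := 3) (b := 8) (by norm_num) (o1_mem S _) (o1_mem S _) (m4 c) (m4 d) h
  obtain ⟨h4, h⟩ := first_uniq Z (a := 4) (b := 8) (by norm_num) (e2_mem S _ _) (e2_mem S _ _) (m5 c) (m5 d) h
  obtain ⟨h5, h⟩ := first_uniq Z (a := 5) (b := 8) (by norm_num) (o2_mem S _) (o2_mem S _) (m6 c) (m6 d) h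
  obtain ⟨h6, h⟩ := first_uniq Z (a := 6) (b := 8) (by norm_num) (e3_mem S _ _) (e3_mem S _ _) (m7 c) (m7 d) h
  obtain ⟨h7, h8⟩ := first_uniq Z (a := 7) (b := 8) (by norm_num) (o3_mem S _) (o3_mem S _) (m8 c) (m8 d) h
  obtain ⟨k2, k2'⟩ := S.injE _ _ _ _ _ h2
  obtain ⟨k4, k4'⟩ := S.injE _ _ _ _ _ h4
  obtain ⟨k6, k6'⟩ := S.injE _ _ _ _ _ h6
  obtain ⟨k8, k8'⟩ := S.injE _ _ _ _ _ h8
  exact Cd.ext (S.injO _ h1) k2 k2' (S.injO _ h3) k4 k4' (S.injO _ h5) k6 k6' (S.injO _ h7) k8 k8'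

/-- **the model**: the group `J 1 8` has coordinates -/
noncomputable def modelTF : TF σ ↥(J S.XZ 1 8) where
  x1 t := ⟨S.o 0 t, mem_J (o0_mem S t) (by norm_num) (by norm_num)⟩
  x3 t := ⟨S.o 1 t, mem_J (o1_mem S t) (by norm_num) (by norm_num)⟩
  x5 t := ⟨S.o 2 t, mem_J (o2_mem S t) (by norm_num) (by norm_num)⟩
  x7 t := ⟨S.o 3 t, mem_J (o3_mem S t) (by norm_num) (by norm_num)⟩
  x2 p u := ⟨S.e 1 p u, mem_J (e1_mem S p u) (by norm_num) (by norm_num)⟩
  x4 p u := ⟨S.e 2 p u, mem_J (e2_mem S p u) (by norm_num) (by norm_num)⟩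
  x6 p u := ⟨S.e 3 p u, mem_J (e3_mem S p u) (by norm_num) (by norm_num)⟩
  x8 p u := ⟨S.e 4 p u, mem_J (e4_mem S p u) (by norm_num) (by norm_num)⟩
  rel := by
    constructor
    case m1 => intro t s; exact Subtype.ext (S.rel.m1 t s)
    case m3 => intro t s; exact Subtype.ext (S.rel.m3 t s)
    case m5 => intro t s; exact Subtype.ext (S.rel.m5 t s)
    case m7 => intro t s; exact Subtype.ext (S.rel.m7 t s)
    case m2 => intro p u q v; exact Subtype.ext (S.rel.m2 p u q v)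
    case m4 => intro p u q v; exact Subtype.ext (S.rel.m4 p u q v)
    case m6 => intro p u q v; exact Subtype.ext (S.rel.m6 p u q v)
    case m8 => intro p u q v; exact Subtype.ext (S.rel.m8 p u q v)
    case r12 => intro t q v; exact Subtype.ext (S.rel.r12 t q v)
    case r13 => intro t s; exact Subtype.ext (S.rel.r13 t s)
    case r14 => intro t q v; exact Subtype.ext (S.rel.r14 t q v)
    case r15 => intro t s; exact Subtype.ext (S.rel.r15 t s)
    case r16 => intro t q v; exact Subtype.ext (S.rel.r16 t q v)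
    case r17 => intro t s; exact Subtype.ext (S.rel.r17 t s)
    case r18 => intro t q v; exact Subtype.ext (S.rel.r18 t q v)
    case r23 => intro p u s; exact Subtype.ext (S.rel.r23 p u s)
    case r24 => intro p u q v; exact Subtype.ext (S.rel.r24 p u q v)
    case r25 => intro p u s; exact Subtype.ext (S.rel.r25 p u s)
    case r26 => intro p u q v; exact Subtype.ext (S.rel.r26 p u q v)
    case r27 => intro p u s; exact Subtype.ext (S.rel.r27 p u s)
    case r28 => intro p u q v; exact Subtype.ext (S.rel.r28 p u q v)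
    case r34 => intro t q v; exact Subtype.ext (S.rel.r34 t q v)
    case r35 => intro t s; exact Subtype.ext (S.rel.r35 t s)
    case r36 => intro t q v; exact Subtype.ext (S.rel.r36 t q v)
    case r37 => intro t s; exact Subtype.ext (S.rel.r37 t s)
    case r38 => intro t q v; exact Subtype.ext (S.rel.r38 t q v)
    case r45 => intro p u s; exact Subtype.ext (S.rel.r45 p u s)
    case r46 => intro p u q v; exact Subtype.ext (S.rel.r46 p u q v)
    case r47 => intro p u s; exact Subtype.ext (S.rel.r47 p u s)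
    case r48 => intro p u q v; exact Subtype.ext (S.rel.r48 p u q v)
    case r56 => intro t q v; exact Subtype.ext (S.rel.r56 t q v)
    case r57 => intro t s; exact Subtype.ext (S.rel.r57 t s)
    case r58 => intro t q v; exact Subtype.ext (S.rel.r58 t q v)
    case r67 => intro p u s; exact Subtype.ext (S.rel.r67 p u s)
    case r68 => intro p u q v; exact Subtype.ext (S.rel.r68 p u q v)
    case r78 => intro t q v; exact Subtype.ext (S.rel.r78 t q v)
  bij := by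
    constructor
    · intro c d h
      exact prod_inj S (congrArg Subtype.val h)
    · intro g
      obtain ⟨c, hc⟩ := exists_prod S g.2
      exact ⟨c, Subtype.ext hc.symm⟩

end model

/-! ### transport along an isomorphism -/

section transport

variable {K : Type u} [Field K] {σ : K →+* K} {U : Type v} [Group U] (T : TF σ U) {H : Type w} [Group H]

theorem octRel_map {x1 x3 x5 x7 : K → U} {x2 x4 x6 x8 : K → K → U} (R : OctRel σ x1 x3 x5 x7 x2 x4 x6 x8)
    (φ : U →* H) : OctRel σ (fun t => φ (x1 t)) (fun t => φ (x3 t)) (fun t => φ (x5 t)) (fun t => φ (x7 t))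
      (fun p u => φ (x2 p u)) (fun p u => φ (x4 p u)) (fun p u => φ (x6 p u)) (fun p u => φ (x8 p u)) := by
  constructor
  case m1 => intro t s; simpa only [map_mul] using congrArg φ (R.m1 t s)
  case m3 => intro t s; simpa only [map_mul] using congrArg φ (R.m3 t s)
  case m5 => intro t s; simpa only [map_mul] using congrArg φ (R.m5 t s)
  case m7 => intro t s; simpa only [map_mul] using congrArg φ (R.m7 t s)
  case m2 => intro p u q v; rw [← map_mul, R.m2]
  case m4 => intro p u q v; rw [← map_mul, R.m4]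
  case m6 => intro p u q v; rw [← map_mul, R.m6]
  case m8 => intro p u q v; rw [← map_mul, R.m8]
  case r12 => intro t q v; simp only [← map_mul]; rw [R.r12]
  case r13 => intro t s; simp only [← map_mul]; rw [R.r13]
  case r14 => intro t q v; rw [← map_mul, R.r14]; simp only [map_mul φ]
  case r15 => intro t s; simp only [← map_mul]; rw [R.r15]
  case r16 => intro t q v; rw [← map_mul, R.r16]; simp only [map_mul φ]
  case r17 => intro t s; rw [← map_mul, R.r17]; simp only [map_mul φ]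
  case r18 => intro t q v; rw [← map_mul, R.r18]; simp only [map_mul φ]
  case r23 => intro p u s; simp only [← map_mul]; rw [R.r23]
  case r24 => intro p u q v; rw [← map_mul, R.r24]; simp only [map_mul φ]
  case r25 => intro p u s; rw [← map_mul, R.r25]; simp only [map_mul φ]
  case r26 => intro p u q v; simp only [← map_mul]; rw [R.r26]
  case r27 => intro p u s; rw [← map_mul, R.r27]; simp only [map_mul φ]
  case r28 => intro p u q v; rw [← map_mul, R.r28]; simp only [map_mul φ]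
  case r34 => intro t q v; simp only [← map_mul]; rw [R.r34]
  case r35 => intro t s; simp only [← map_mul]; rw [R.r35]
  case r36 => intro t q v; rw [← map_mul, R.r36]; simp only [map_mul φ]
  case r37 => intro t s; simp only [← map_mul]; rw [R.r37]
  case r38 => intro t q v; rw [← map_mul, R.r38]; simp only [map_mul φ]
  case r45 => intro p u s; simp only [← map_mul]; rw [R.r45]
  case r46 => intro p u q v; rw [← map_mul, R.r46]; simp only [map_mul φ]
  case r47 => intro p u s; rw [← map_mul, R.r47]; simp only [map_mul φ]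
  case r48 => intro p u q v; simp only [← map_mul]; rw [R.r48]
  case r56 => intro t q v; simp only [← map_mul]; rw [R.r56]
  case r57 => intro t s; simp only [← map_mul]; rw [R.r57]
  case r58 => intro t q v; rw [← map_mul, R.r58]; simp only [map_mul φ]
  case r67 => intro p u s; simp only [← map_mul]; rw [R.r67]
  case r68 => intro p u q v; rw [← map_mul, R.r68]; simp only [map_mul φ]
  case r78 => intro t q v; simp only [← map_mul]; rw [R.r78]

/-- transport of the coordinates -/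
def mapTF (e : U ≃* H) : TF σ H where
  x1 t := e (T.x1 t)
  x3 t := e (T.x3 t)
  x5 t := e (T.x5 t)
  x7 t := e (T.x7 t)
  x2 p u := e (T.x2 p u)
  x4 p u := e (T.x4 p u)
  x6 p u := e (T.x6 p u)
  x8 p u := e (T.x8 p u)
  rel := octRel_map T.rel e.toMonoidHom
  bij := by
    have h : (fun c : Cd K => e (T.x1 c.a1) * e (T.x2 c.a2 c.b2) * e (T.x3 c.a3) * e (T.x4 c.a4 c.b4) *
        e (T.x5 c.a5) * e (T.x6 c.a6 c.b6) * e (T.x7 c.a7) * e (T.x8 c.a8 c.b8)) = e ∘ fun c : Cd K =>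
        T.x1 c.a1 * T.x2 c.a2 c.b2 * T.x3 c.a3 * T.x4 c.a4 c.b4 * T.x5 c.a5 * T.x6 c.a6 c.b6 * T.x7 c.a7 *
          T.x8 c.a8 c.b8 := by
      funext c
      simp only [Function.comp, map_mul]
    rw [h]
    exact e.bijective.comp T.bij

end transport

end Cfsg.Agent.H805.TF
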